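import Groth.Agent.NormGenusLib.Node
import Groth.Agent.NormDimOneLib.Chart

/-!
# The normalization has exactly two points over a node
-/

set_option autoImplicit false
set_option linter.all false
set_option maxHeartbeats 1000000

universe u

open CategoryTheory AlgebraicGeometry TopologicalSpace
open scoped nonZeroDivisors
open NodeFrobLib (br)

noncomputable section

namespace NodeCohLib

theorem natCard_branches {R A R' L K : Type u} [CommRing R] [CommRing A] [IsLocalRing A] [IsDomain A]
    [CommRing R'] [Field L] [Field K] [Algebra R A] [Algebra R R'] [Algebra R L] [Algebra A L]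
    [IsScalarTower R A L] [IsFractionRing A L] (p : Ideal R) [p.IsPrime] [p.IsMaximal] [IsLocalization.AtPrime A p]
    (ψ : R' →+* L) (hψ : Function.Injective ψ) (hψR : ∀ r, ψ (algebraMap R R' r) = algebraMap R L r)
    (hint : Algebra.IsIntegral R R') (hmax : ∀ z : L, IsIntegral R z → z ∈ Set.range ψ)
    (ι : A →+* NodalLib.R K) (hdvd : ∀ a s, ι s ∣ ι a → s ∣ a)
    (hreg : ∀ s ∈ A⁰, ι s ∈ (NodalLib.R K)⁰)
    (hκ : Function.Surjective fun a => PowerSeries.constantCoeff (br 0 (ι a)))
    (hne : Curv2.deltaInv A ≠ 0) :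
    Nat.card {Q : PrimeSpectrum R' // Q.asIdeal.comap (algebraMap R R') = p} = 2 := by
  classical
  let B := ↥(integralClosure A (FractionRing A))
  choose F hF using fun i => NormGenusLib.mem_range_of_integral ((br i).comp ι)
    (fun s hs => NodeFrobLib.br_ne_zero (hreg s hs) i)
  let κ : A →+* K := (PowerSeries.constantCoeff.comp (br 0)).comp ι
  have hFa : ∀ i a, F i (algebraMap A B a) = br i (ι a) := fun i a => by
    simpa using hF i (algebraMap A B a) a 1 (by rw [map_one, mul_one]; rfl)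
  let G : Fin 2 → B →+* K := fun i => PowerSeries.constantCoeff.comp (F i)
  have hGa : ∀ i a, G i (algebraMap A B a) = κ a := by
    intro i a
    show PowerSeries.constantCoeff (F i (algebraMap A B a)) = _
    rw [hFa]
    fin_cases i
    · rfl
    · exact (NodeFrobLib.const_br (ι a)).symm
  have hrange : ∀ q : B, G 0 q = G 1 q → ∃ a, algebraMap A B a = q := by
    intro q hq
    obtain ⟨⟨a, s⟩, has⟩ := IsLocalization.surj A⁰ (q : FractionRing A)
    obtain ⟨r, hr⟩ := NodeFrobLib.exists_of_const (fun i => F i q) hq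
    obtain ⟨c, hc⟩ := hdvd a s ⟨r, NodeFrobLib.br_ext fun i => by
      rw [map_mul, hr]; exact ((mul_comm _ _).trans (hF i q a s has)).symm⟩
    refine ⟨c, Subtype.ext ((IsLocalization.map_units (FractionRing A) s).mul_right_cancel ?_)⟩
    rw [has, hc]
    change algebraMap A (FractionRing A) c * _ = _
    rw [map_mul, mul_comm]
  -- the map R' → B
  let e : FractionRing A ≃ₐ[A] L := FractionRing.algEquiv A L
  have hmemB : ∀ x : R', e.symm (ψ x) ∈ integralClosure A (FractionRing A) := fun x => by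
    have h1 : IsIntegral R (ψ x) := by
      obtain ⟨P, hP, hPx⟩ := hint.isIntegral x
      refine ⟨P, hP, ?_⟩
      rw [show algebraMap R L = ψ.comp (algebraMap R R') from RingHom.ext fun r => (hψR r).symm,
        ← Polynomial.hom_eval₂, hPx, map_zero]
    exact (h1.tower_top (A := A)).map e.symm.toAlgHom
  let φ : R' →+* B :=
    (e.symm.toAlgHom.toRingHom.comp ψ).codRestrict (integralClosure A (FractionRing A)).toSubring hmemB
  have hφ : ∀ x, ((φ x : B) : FractionRing A) = e.symm (ψ x) := fun x => rfl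
  have hφinj : Function.Injective φ := fun x y h => hψ (e.symm.injective (congrArg Subtype.val h))
  have hφR : ∀ r, φ (algebraMap R R' r) = algebraMap A B (algebraMap R A r) := fun r => Subtype.ext (by
    rw [hφ, hψR, IsScalarTower.algebraMap_apply R A L, AlgEquiv.commutes]
    rfl)
  have hkerκ : ∀ a, κ a = 0 ↔ a ∈ IsLocalRing.maximalIdeal A := fun a => by
    have : RingHom.ker κ = IsLocalRing.maximalIdeal A :=
      IsLocalRing.eq_maximalIdeal (RingHom.ker_isMaximal_of_surjective κ hκ)
    rw [← this]; rfl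
  have hκR : ∀ r, κ (algebraMap R A r) = 0 ↔ r ∈ p := fun r => by
    rw [hkerκ, IsLocalization.AtPrime.to_map_mem_maximal_iff A p]
  have hfrac : ∀ a : A, ∃ r s : R, s ∉ p ∧ a * algebraMap R A s = algebraMap R A r := fun a => by
    obtain ⟨⟨r, s⟩, h⟩ := IsLocalization.surj p.primeCompl a
    exact ⟨r, s, s.2, h⟩
  let P : Fin 2 → PrimeSpectrum R' := fun i => ⟨RingHom.ker ((G i).comp φ), RingHom.ker_isPrime _⟩
  have hP : ∀ i, (P i).asIdeal.comap (algebraMap R R') = p := fun i => by
    ext r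
    show G i (φ (algebraMap R R' r)) = 0 ↔ r ∈ p
    rw [hφR, hGa, hκR]
  have hsurj : ∀ i, Function.Surjective ((G i).comp φ) := fun i y => by
    obtain ⟨a, ha⟩ := hκ y
    obtain ⟨r, s, hs, h⟩ := hfrac a
    obtain ⟨t, m, hm, htm⟩ := Ideal.IsMaximal.exists_inv ‹p.IsMaximal› hs
    refine ⟨algebraMap R R' (r * t), ?_⟩
    show G i (φ (algebraMap R R' (r * t))) = y
    rw [hφR, hGa, map_mul, map_mul, ← h, map_mul]
    have h1 := congrArg (fun z => κ (algebraMap R A z)) htm
    simp only [map_add, map_mul, map_one, (hκR m).2 hm, add_zero] at h1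
    rw [mul_assoc, mul_comm (κ (algebraMap R A s)), h1, mul_one]
    exact ha
  have hclear : ∀ b : B, ∃ s : R, s ∉ p ∧ ∃ x, φ x = algebraMap A B (algebraMap R A s) * b := by
    intro b
    have hb : IsIntegral A (e (b : FractionRing A)) := IsIntegral.map e.toAlgHom b.2
    obtain ⟨s, hs⟩ := IsIntegral.exists_multiple_integral_of_isLocalization p.primeCompl (Rₘ := A) _ hb
    obtain ⟨x, hx⟩ := hmax _ hs
    refine ⟨s, s.2, x, Subtype.ext ?_⟩
    show e.symm (ψ x) = algebraMap A (FractionRing A) (algebraMap R A s) * _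
    rw [hx, Submonoid.smul_def, Algebra.smul_def, map_mul, e.symm_apply_apply,
      IsScalarTower.algebraMap_apply R A L, AlgEquiv.commutes]
  have hP01 : P 0 ≠ P 1 := by
    intro h
    have heq : ∀ x, G 0 (φ x) = G 1 (φ x) := fun x => by
      obtain ⟨a, ha⟩ := hκ (G 0 (φ x))
      obtain ⟨r, s, hs, hrs⟩ := hfrac a
      have h0 : x * algebraMap R R' s - algebraMap R R' r ∈ (P 0).asIdeal := by
        show G 0 (φ _) = 0
        rw [map_sub, map_sub, map_mul, map_mul, hφR, hφR, hGa, hGa, ← hrs, map_mul, ← ha]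
        exact sub_self _
      rw [h] at h0
      have h0' : G 1 (φ (x * algebraMap R R' s - algebraMap R R' r)) = 0 := h0
      rw [map_sub, map_sub, map_mul, map_mul, hφR, hφR, hGa, hGa, ← hrs, map_mul, sub_eq_zero] at h0'
      rw [mul_right_cancel₀ (mt (hκR s).1 hs) h0']
      exact ha.symm
    refine hne ?_
    rw [Curv2.deltaInv, Module.length_eq_zero_iff, Submodule.Quotient.subsingleton_iff, LinearMap.range_eq_top]
    intro b
    refine hrange b ?_
    obtain ⟨s, hs, x, hx⟩ := hclear b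
    have := heq x
    rw [hx, map_mul, map_mul, hGa, hGa] at this
    exact mul_left_cancel₀ (mt (hκR s).1 hs) this
  have hall : ∀ Q : PrimeSpectrum R', Q.asIdeal.comap (algebraMap R R') = p → Q = P 0 ∨ Q = P 1 := by
    intro Q hQ
    have hle : (P 0).asIdeal * (P 1).asIdeal ≤ Q.asIdeal := by
      refine Ideal.mul_le_inf.trans fun x hx => ?_
      have hx0 : G 0 (φ x) = 0 := hx.1
      have hx1 : G 1 (φ x) = 0 := hx.2
      obtain ⟨a, ha⟩ := hrange (φ x) (hx0.trans hx1.symm)
      have ham : κ a = 0 := by rw [← hGa 0, ha, hx0]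
      obtain ⟨r, s, hs, hrs⟩ := hfrac a
      have hx' : x * algebraMap R R' s = algebraMap R R' r := hφinj (by
        rw [map_mul, hφR, hφR, ← ha, ← map_mul, hrs])
      have hr : r ∈ p := by rw [← hκR, ← hrs, map_mul, ham, zero_mul]
      have hrQ : algebraMap R R' r ∈ Q.asIdeal := Ideal.mem_comap.1 (hQ.symm ▸ hr : r ∈ Q.asIdeal.comap _)
      rw [← hx'] at hrQ
      exact (Q.isPrime.mem_or_mem hrQ).resolve_right fun hsQ => hs (hQ ▸ (Ideal.mem_comap.2 hsQ))
    have hPmax : ∀ i, (P i).asIdeal.IsMaximal := fun i => RingHom.ker_isMaximal_of_surjective _ (hsurj i)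
    rcases Q.isPrime.mul_le.1 hle with h | h
    · exact Or.inl (PrimeSpectrum.ext ((hPmax 0).eq_of_le Q.isPrime.ne_top h).symm)
    · exact Or.inr (PrimeSpectrum.ext ((hPmax 1).eq_of_le Q.isPrime.ne_top h).symm)
  let f : Fin 2 → {Q : PrimeSpectrum R' // Q.asIdeal.comap (algebraMap R R') = p} := fun i => ⟨P i, hP i⟩
  have hf : Function.Bijective f := by
    refine ⟨fun i j h => ?_, fun Q => ?_⟩
    · have h' : P i = P j := congrArg Subtype.val h
      fin_cases i <;> fin_cases j <;> first | rfl | exact absurd h' hP01 | exact absurd h'.symm hP01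
    · rcases hall Q.1 Q.2 with h | h
      · exact ⟨0, Subtype.ext h.symm⟩
      · exact ⟨1, Subtype.ext h.symm⟩
  rw [← Nat.card_eq_of_bijective f hf, Nat.card_eq_fintype_card, Fintype.card_fin]

/-- **Two points over a node.** -/
theorem natCard_fibre_node {k : Type u} [Field k] [IsAlgClosed k] (X : Scheme.{u})
    [X.Over (Spec (CommRingCat.of k))] [LocallyOfFiniteType (X ↘ Spec (CommRingCat.of k))] [IsIntegral X]
    [QuasiCompact (X.fromSpecStalk (genericPoint X))] [QuasiSeparated (X.fromSpecStalk (genericPoint X))]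
    (hdim : topologicalKrullDim X = 1) {x : X} (hx : Curv2.IsNode k X x) :
    Nat.card {y : Curv2.normalization X // (Curv2.normalizationι X).base y = x} = 2 := by
  let ν := Curv2.normalizationι X
  obtain ⟨_, ⟨V, hV, rfl⟩, hxV, -⟩ :=
    X.isBasis_affineOpens.exists_subset_of_mem_open (Set.mem_univ x) isOpen_univ
  haveI : Nonempty V := ⟨⟨x, hxV⟩⟩
  haveI : IsIntegralHom ν := inferInstanceAs (IsIntegralHom (X.fromSpecStalk (genericPoint X)).fromNormalization)
  obtain ⟨ψ, hψ, hψa, -, hmax⟩ := NormDimOneLib.exists_chart X ⟨V, hV⟩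
  let R := Γ(X, V)
  let R' := Γ(Curv2.normalization X, ν ⁻¹ᵁ V)
  letI : Algebra R R' := (ν.app V).hom.toAlgebra
  letI : Algebra R X.functionField := (X.germToFunctionField V).hom.toAlgebra
  letI : Algebra R (X.presheaf.stalk x) := TopCat.Presheaf.algebra_section_stalk X.presheaf ⟨x, hxV⟩
  haveI : IsScalarTower R (X.presheaf.stalk x) X.functionField :=
    functionField_isScalarTower X V ⟨x, hxV⟩
  let p := (hV.primeIdealOf ⟨x, hxV⟩).asIdeal
  haveI : IsLocalization.AtPrime (X.presheaf.stalk x) p := hV.isLocalization_stalk ⟨x, hxV⟩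
  haveI : p.IsMaximal := by
    rw [← PrimeSpectrum.isClosed_singleton_iff_isMaximal]
    have : ({hV.primeIdealOf ⟨x, hxV⟩} : Set (Spec Γ(X, V))) = hV.fromSpec.base ⁻¹' {x} := by
      ext q
      simp only [Set.mem_singleton_iff, Set.mem_preimage]
      constructor
      · rintro rfl; exact hV.fromSpec_primeIdealOf ⟨x, hxV⟩
      · intro hq; exact hV.fromSpec.isOpenEmbedding.injective (hq.trans (hV.fromSpec_primeIdealOf ⟨x, hxV⟩).symm)
    show IsClosed ({hV.primeIdealOf ⟨x, hxV⟩} : Set (Spec Γ(X, V)))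
    rw [this]
    exact hx.1.preimage hV.fromSpec.continuous
  have hint : Algebra.IsIntegral R R' := ⟨ν.isIntegral_app V hV⟩
  obtain ⟨ι, h1, h2, h3⟩ := NodeFrobLib.exists_node_hom hx
  have hδ := NormGenusLib.deltaInv_node hdim.le hx
  have h := natCard_branches p ψ hψ hψa hint hmax ι h1 h2 h3 (by rw [hδ]; exact one_ne_zero)
  rw [← h]
  let hV' : IsAffineOpen (ν ⁻¹ᵁ V) := hV.preimage ν
  have hbase : ∀ Q : PrimeSpectrum R', ν.base (hV'.fromSpec.base Q) =
      hV.fromSpec.base (PrimeSpectrum.comap (ν.app V).hom Q) := fun Q => by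
    rw [← Scheme.Hom.comp_apply, ← IsAffineOpen.SpecMap_appLE_fromSpec ν hV hV' le_rfl, Scheme.Hom.comp_apply,
      Scheme.Hom.app_eq_appLE]
    rfl
  let g : {Q : PrimeSpectrum R' // Q.asIdeal.comap (algebraMap R R') = p} →
      {y : Curv2.normalization X // ν.base y = x} := fun Q =>
    ⟨hV'.fromSpec.base Q.1, by
      rw [hbase]
      exact (congrArg hV.fromSpec.base (PrimeSpectrum.ext Q.2)).trans (hV.fromSpec_primeIdealOf ⟨x, hxV⟩)⟩
  refine (Nat.card_eq_of_bijective g ⟨fun a b hab => ?_, fun y => ?_⟩).symm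
  · have e : (g a).1 = (g b).1 := by rw [hab]
    exact Subtype.ext (hV'.fromSpec.isOpenEmbedding.injective e)
  · have hy : y.1 ∈ ν ⁻¹ᵁ V := by show ν.base y.1 ∈ V; rw [y.2]; exact hxV
    refine ⟨⟨hV'.primeIdealOf ⟨y.1, hy⟩, ?_⟩, Subtype.ext (hV'.fromSpec_primeIdealOf ⟨y.1, hy⟩)⟩
    refine congrArg PrimeSpectrum.asIdeal (hV.fromSpec.isOpenEmbedding.injective (a₁ := PrimeSpectrum.comap (ν.app V).hom (hV'.primeIdealOf ⟨y.1, hy⟩)) (a₂ := hV.primeIdealOf ⟨x, hxV⟩) ?_)
    rw [← hbase, hV'.fromSpec_primeIdealOf, hV.fromSpec_primeIdealOf]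
    exact y.2

end NodeCohLib

end
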