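import Groth.Agent.S1585
import Groth.Agent.S5950
import Groth.Agent.S7689
import Groth.Agent.S14451
import Groth.Agent.GenusZeroLib.RatData
import Groth.Agent.EtBlowSqLib.Square
import Groth.Agent.EtPnCohLib.Punct
import Groth.Agent.TFNodalLib.Node
import Groth.Agent.AicVanishLib.Affine
import Groth.Agent.NodeCohLib.Branch

/-!
# First cohomology of a one-nodal curve and of its normalization
-/

set_option autoImplicit false
set_option linter.all false
set_option backward.isDefEq.respectTransparency false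
set_option backward.isDefEq.respectTransparency.types false
set_option maxHeartbeats 2000000
set_option synthInstance.maxHeartbeats 400000

universe u

open CategoryTheory CategoryTheory.Limits CategoryTheory.Abelian AlgebraicGeometry Opposite
open Groth.Agent Groth.Agent.EtShLib

attribute [local instance] CategoryTheory.Abelian.hasFiniteBiproducts EtSliceLib.pullExact

noncomputable section

namespace NodeCohLib

open EtPnCohLib (cn)

/-- The long exact sequence of a monomorphism which is bijective on global sections. -/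
theorem surjective_postcomp_and_ker {X : Scheme.{u}} {S : ShortComplex (EtCoh.Ab X)} (hS : S.ShortExact)
    (h0 : Function.Surjective fun x : EtCoh.H X S.X₁ 0 => x.comp (Ext.mk₀ S.f) (add_zero 0))
    (h1 : Subsingleton (EtCoh.H X S.X₃ 1)) :
    Function.Surjective (fun x : EtCoh.H X S.X₁ 1 => x.comp (Ext.mk₀ S.f) (add_zero 1)) ∧
    Nat.card {x : EtCoh.H X S.X₁ 1 // x.comp (Ext.mk₀ S.f) (add_zero 1) = 0} = Nat.card (EtCoh.H X S.X₃ 0) := by
  refine ⟨fun y => Ext.covariant_sequence_exact₂ _ hS y (h1.elim _ _), ?_⟩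
  let δ : EtCoh.H X S.X₃ 0 → {x : EtCoh.H X S.X₁ 1 // x.comp (Ext.mk₀ S.f) (add_zero 1) = 0} := fun z =>
    ⟨z.comp hS.extClass (zero_add 1), by
      rw [Ext.comp_assoc_of_third_deg_zero, hS.extClass_comp, Ext.comp_zero]⟩
  refine (Nat.card_eq_of_bijective δ ⟨fun a b hab => ?_, fun x => ?_⟩).symm
  · have e : (a - b).comp hS.extClass (zero_add 1) = 0 := by
      have h : a.comp hS.extClass (zero_add 1) = b.comp hS.extClass (zero_add 1) := congrArg Subtype.val hab
      rw [sub_eq_add_neg, Ext.add_comp, Ext.neg_comp, h, add_neg_cancel]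
    obtain ⟨y, hy⟩ := Ext.covariant_sequence_exact₃ _ hS (a - b) (zero_add 1) e
    obtain ⟨c, rfl⟩ := h0 y
    refine sub_eq_zero.1 (hy.symm.trans ?_)
    rw [Ext.comp_assoc_of_second_deg_zero, Ext.mk₀_comp_mk₀, S.zero, Ext.mk₀_zero, Ext.comp_zero]
  · obtain ⟨z, hz⟩ := Ext.covariant_sequence_exact₁ _ hS x.1 x.2 (n₀ := 0) rfl
    exact ⟨z, Subtype.ext hz⟩

/-- Sections of a sheaf at a separably closed point are exact. -/
theorem card_H_zero_point {Ω : Type u} [Field Ω] [IsSepClosed Ω]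
    {S : ShortComplex (EtCoh.Ab (Spec (CommRingCat.of Ω)))} (hS : S.ShortExact) :
    Nat.card (EtCoh.H _ S.X₂ 0) = Nat.card (EtCoh.H _ S.X₁ 0) * Nat.card (EtCoh.H _ S.X₃ 0) := by
  let a : EtCoh.H _ S.X₁ 0 →+ EtCoh.H _ S.X₂ 0 := TorsBCLib.em _ S.f 0
  let b : EtCoh.H _ S.X₂ 0 →+ EtCoh.H _ S.X₃ 0 := TorsBCLib.em _ S.g 0
  haveI := hS.mono_f
  have ha : Function.Injective a := TorsBCLib.em_inj_zero _ S.f
  have hb : Function.Surjective b := fun z => by
    obtain ⟨y, hy⟩ := Ext.covariant_sequence_exact₃ _ hS z (zero_add 1) (EtAcycFibLib.eq_zero_of_point _ 0 _)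
    exact ⟨y, hy⟩
  have hr : a.range = b.ker := by
    ext y
    constructor
    · rintro ⟨x, rfl⟩
      show TorsBCLib.em _ S.g 0 (TorsBCLib.em _ S.f 0 x) = 0
      rw [TorsBCLib.em_comp, S.zero, TorsBCLib.em_zero]
    · intro hy
      obtain ⟨x, hx⟩ := Ext.covariant_sequence_exact₂ _ hS y hy
      exact ⟨x, hx⟩
  rw [AddSubgroup.card_eq_card_quotient_mul_card_addSubgroup b.ker,
    Nat.card_congr (QuotientAddGroup.quotientKerEquivOfSurjective b hb).toEquiv, ← hr,
    Nat.card_congr (AddMonoidHom.ofInjective ha).symm.toEquiv, mul_comm]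

/-- The unit is an isomorphism on stalks where the morphism is an isomorphism. -/
theorem isIso_stk_unit {X X' : Scheme.{u}} (b : X' ⟶ X) [IsProper b] (V : X.Opens) [IsIso (b ∣_ V)]
    (K : EtCoh.Ab X) {Ω : Type u} [Field Ω] [IsSepClosed Ω] (ξ : Spec (CommRingCat.of Ω) ⟶ X)
    (hξ : ξ.base default ∈ V) :
    IsIso ((stk (A := AddCommGrpCat.{u + 1}) ξ).map ((EtCoh.pullPushAdj b).unit.app K)) := by
  obtain ⟨ζ, hζ, rfl⟩ := EtBlowSq.exists_point b V ξ hξ
  haveI := isIso_compare (A := AddCommGrpCat.{u + 1}) b ζ (EtBlowSq.refines b V ζ hζ) ((EtCoh.pull b).obj K)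
  have e : (stk (ζ ≫ b)).map ((EtCoh.pullPushAdj b).unit.app K) ≫ compare b ζ ((EtCoh.pull b).obj K) =
      (stalkPull b ζ AddCommGrpCat.{u + 1}).hom.app K := by
    apply stk_hom_ext
    intro U u
    rw [← Category.assoc, germ_natural, Category.assoc]
    exact (congrArg (_ ≫ ·) (germ_compare b ζ _ U u)).trans (germ_stalkPull b ζ _ K U u).symm
  haveI : IsIso ((stk (ζ ≫ b)).map ((EtCoh.pullPushAdj b).unit.app K) ≫ compare b ζ ((EtCoh.pull b).obj K)) := by
    rw [e]; infer_instance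
  exact IsIso.of_isIso_comp_right _ (compare b ζ ((EtCoh.pull b).obj K))

theorem isZero_stk_cokernel {X : Scheme.{u}} {S : ShortComplex (EtCoh.Ab X)} (hS : S.ShortExact)
    {Ω : Type u} [Field Ω] [IsSepClosed Ω] (ξ : Spec (CommRingCat.of Ω) ⟶ X)
    (h : IsIso ((stk (A := AddCommGrpCat.{u + 1}) ξ).map S.f)) :
    IsZero ((stk (A := AddCommGrpCat.{u + 1}) ξ).obj S.X₃) := by
  haveI : IsIso (S.map (stk (A := AddCommGrpCat.{u + 1}) ξ)).f := h
  exact ((hS.map_of_exact (stk (A := AddCommGrpCat.{u + 1}) ξ)).isIso_f_iff).1 ‹_›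

/-- A finite scheme over a field is discrete. -/
theorem discreteTopology_of_finite {k : Type u} [Field k] {Z : Scheme.{u}} (q : Z ⟶ Spec (CommRingCat.of k))
    [IsFinite q] : DiscreteTopology Z := by
  haveI : IsAffine Z := isAffine_of_isAffineHom q
  letI : Algebra k Γ(Z, ⊤) := ((Scheme.ΓSpecIso (CommRingCat.of k)).inv ≫ q.appTop).hom.toAlgebra
  haveI : Module.Finite k Γ(Z, ⊤) := by
    have h : q.appTop.hom.Finite := q.finite_app ⊤ (isAffineOpen_top _)
    exact h.comp (RingHom.Finite.of_surjective _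
      (Scheme.ΓSpecIso (CommRingCat.of k)).symm.commRingCatIsoToRingEquiv.surjective)
  haveI : IsArtinianRing Γ(Z, ⊤) := IsArtinianRing.of_finite k Γ(Z, ⊤)
  haveI : DiscreteTopology (Spec Γ(Z, ⊤)) := inferInstanceAs (DiscreteTopology (PrimeSpectrum _))
  exact Z.isoSpec.hom.homeomorph.symm.discreteTopology

variable {k : Type u} [Field k] [IsAlgClosed k] (X : Scheme.{u}) [X.Over (Spec (CommRingCat.of k))]
  [IsProper (X ↘ Spec (CommRingCat.of k))] [IsIntegral X]
  [QuasiCompact (X.fromSpecStalk (genericPoint X))] [QuasiSeparated (X.fromSpecStalk (genericPoint X))]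

/-- Off the node the local rings are normal. -/
theorem isIntegrallyClosed_of_not_node (hdim : topologicalKrullDim X = 1) (hnodal : Curv2.AtWorstNodal k X)
    {x : X} (hx : ¬ Curv2.IsNode k X x) : IsIntegrallyClosed (X.presheaf.stalk x) := by
  by_cases hc : IsClosed ({x} : Set X)
  · obtain ⟨U, hxU, hU⟩ := (hnodal x hc).resolve_right hx
    haveI : IsLocallyNoetherian X := LocallyOfFiniteType.isLocallyNoetherian (X ↘ Spec (CommRingCat.of k))
    haveI : LocallyOfFinitePresentation (X ↘ Spec (CommRingCat.of k)) :=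
      LocallyOfFinitePresentation.iff_locallyOfFiniteType.2 inferInstance
    refine (GenusZeroLib.isIntegrallyClosed_of_mem_smoothLocus (k := k) ?_).2
    haveI := hU
    have h : (⟨x, hxU⟩ : U) ∈ (U.ι ≫ (X ↘ Spec (CommRingCat.of k))).smoothLocus := by
      rw [Scheme.Hom.smoothLocus_eq_top]; trivial
    rw [Scheme.Hom.mem_smoothLocus, Scheme.Hom.stalkMap_comp] at h
    rw [Scheme.Hom.mem_smoothLocus]
    let e := (asIso (U.ι.stalkMap ⟨x, hxU⟩)).commRingCatIsoToRingEquiv
    have h2 := (RingHom.FormallySmooth.respectsIso).1 _ e.symm h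
    have he : e.symm.toRingHom.comp (CommRingCat.Hom.hom (Scheme.Hom.stalkMap (X ↘ Spec (CommRingCat.of k)) x ≫ U.ι.stalkMap ⟨x, hxU⟩)) =
        (Scheme.Hom.stalkMap (X ↘ Spec (CommRingCat.of k)) x).hom :=
      RingHom.ext fun a => e.symm_apply_apply _
    exact he ▸ h2
  · rw [Groth.Agent.S7689.eq_genericPoint X hdim hc]
    exact inferInstanceAs (IsIntegrallyClosed X.functionField)

/-- **Cohomology of a one-nodal curve.** -/
theorem main_const (hdim : topologicalKrullDim X = 1) (hnodal : Curv2.AtWorstNodal k X)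
    (hone : Nat.card {x : X // Curv2.IsNode k X x} = 1) (n : ℕ) (hn : 1 ≤ n) :
    Function.Surjective (EtCore.Hpull (Curv2.normalizationι X) (cn X n) 1) ∧
    Nat.card (EtCore.Hpull (Curv2.normalizationι X) (cn X n) 1).ker = n := by
  haveI : NeZero n := ⟨by omega⟩
  let f := X ↘ Spec (CommRingCat.of k)
  obtain ⟨hfin, -, -, hint, -⟩ := Groth.Agent.S1585.result k X
  let ν := Curv2.normalizationι X
  haveI : IsFinite ν := hfin
  haveI : IsIntegral (Curv2.normalization X) := hint
  haveI : Surjective ν := Groth.Agent.S1585.surjective_ν X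
  obtain ⟨hsub, ⟨⟨z, hz⟩⟩⟩ := Nat.card_eq_one_iff_unique.1 hone
  have huniq : ∀ x, Curv2.IsNode k X x → x = z := fun x hx => congrArg Subtype.val (hsub.elim ⟨x, hx⟩ ⟨z, hz⟩)
  have hzc : IsClosed ({z} : Set X) := hz.1
  let V : X.Opens := ⟨{z}ᶜ, hzc.isOpen_compl⟩
  have hV : ∀ x ∈ V, IsIntegrallyClosed (X.presheaf.stalk x) := fun x hx =>
    isIntegrallyClosed_of_not_node X hdim hnodal fun h => hx (huniq x h)
  have hVne : (V : Set X).Nonempty := by
    refine ⟨genericPoint X, fun h => ?_⟩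
    exact TFNodalLib.not_node_of_isField k X (x := genericPoint X)
      (Field.toIsField X.functionField) ((show genericPoint X = z from h) ▸ hz)
  haveI : IsIso (ν ∣_ V) := Groth.Agent.S5950.isIso_normalizationι_restrict X V hVne hV
  -- the node as a point
  obtain ⟨i, hi, hiz⟩ : ∃ i : Spec (CommRingCat.of k) ⟶ X, i ≫ f = 𝟙 _ ∧ i.base default = z := by
    refine ⟨((pointEquivClosedPoint f).symm ⟨z, hzc⟩).1, ((pointEquivClosedPoint f).symm ⟨z, hzc⟩).2, ?_⟩
    have h := congrArg Subtype.val ((pointEquivClosedPoint f).apply_symm_apply ⟨z, hzc⟩)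
    rw [Subsingleton.elim (default : Spec (CommRingCat.of k)) (IsLocalRing.closedPoint k)]
    exact h
  haveI : IsClosedImmersion i := isClosedImmersion_of_comp_eq_id _ _ hi
  have hri : ∀ x : X, x ∈ Set.range i.base ↔ x = z :=
    fun x => ⟨fun ⟨p, hp⟩ => by rw [← hp, Subsingleton.elim p default, hiz], fun h => ⟨default, hiz.trans h.symm⟩⟩
  -- the sequence
  let C := cn X n
  let F := (EtCoh.pull ν).obj C
  let P := (EtCoh.push ν).obj F
  let η : C ⟶ P := (EtCoh.pullPushAdj ν).unit.app C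
  haveI : Mono η := AicVanishLib.mono_unit_of_surjective ν C
  let S : ShortComplex (EtCoh.Ab X) := ShortComplex.mk η (cokernel.π η) (cokernel.condition η)
  have hS : S.ShortExact :=
    { exact := S.exact_of_g_is_cokernel (cokernelIsCokernel η), mono_f := inferInstanceAs (Mono η), epi_g := inferInstanceAs (Epi (cokernel.π η)) }
  have hR : ∀ q : ℕ, 0 < q → IsZero ((EtCoh.Rpush ν q).obj F) := fun q hq =>
    EtShLib.isZero_rightDerived_push_finite ν F q hq
  -- global sections
  have hC : Nonempty (EtCoh.H X C 0 ≃+ ZMod n) := EtSmAcycLib.nonempty_H_zero_const_connected (ZMod n)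
  have hP : Nonempty (EtCoh.H X P 0 ≃+ ZMod n) := by
    obtain ⟨e₁⟩ := EtPnCohLib.nonempty_H_push ν F hR 0
    obtain ⟨e₂⟩ := EtPnCohLib.nonempty_H_congr (EtCore.pullConst ν (ZMod n) : F ≅ cn _ n) 0
    obtain ⟨e₃⟩ := EtSmAcycLib.nonempty_H_zero_const_connected (Y := Curv2.normalization X) (ZMod n)
    exact ⟨e₁.trans (e₂.trans e₃)⟩
  have h0 : Function.Surjective fun x : EtCoh.H X S.X₁ 0 => x.comp (Ext.mk₀ S.f) (add_zero 0) := by
    obtain ⟨eC⟩ := hC
    obtain ⟨eP⟩ := hP
    have hinj : Function.Injective (fun t : ZMod n => eP (TorsBCLib.em (EtCoh.const X ℤ) η 0 (eC.symm t))) :=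
      eP.injective.comp ((TorsBCLib.em_inj_zero _ η).comp eC.symm.injective)
    intro y
    obtain ⟨t, ht⟩ := (Finite.injective_iff_surjective.1 hinj) (eP y)
    exact ⟨eC.symm t, eP.injective ht⟩
  -- the cokernel is supported at the node
  have hQ : ∀ (Ω : Type u) [Field Ω] [IsSepClosed Ω] (ξ : Spec (CommRingCat.of Ω) ⟶ X),
      ξ.base default ∉ Set.range i.base → IsZero ((stk (A := AddCommGrpCat.{u + 1}) ξ).obj S.X₃) :=
    fun Ω _ _ ξ hξ => isZero_stk_cokernel hS ξ (isIso_stk_unit ν V C ξ fun h => hξ ((hri _).2 h))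
  have hQb := EtBlowSq.bijective_Hpull_closed i S.X₃ hQ
  have h1 : Subsingleton (EtCoh.H X S.X₃ 1) :=
    ⟨fun a b => (hQb 1).1 ((EtAcycFibLib.eq_zero_of_point _ 0 _).trans (EtAcycFibLib.eq_zero_of_point _ 0 _).symm)⟩
  obtain ⟨hsurj, hker⟩ := surjective_postcomp_and_ker hS h0 h1
  -- pullback is the push isomorphism after the unit
  have hfun : ∀ x : EtCoh.H X C 1, EtCore.Hpull ν C 1 x =
      EtLim.HofPush ν F 1 (x.comp (Ext.mk₀ η) (add_zero 1)) := by
    intro x
    show EtCore.Hpull ν C 1 x = (EtCore.Hpull ν _ 1 (x.comp (Ext.mk₀ η) (add_zero 1))).comp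
      (Ext.mk₀ ((EtCoh.pullPushAdj ν).counit.app _)) (add_zero 1)
    rw [EtAcycLib.Hpull_postcomp, Ext.comp_assoc_of_second_deg_zero, Ext.mk₀_comp_mk₀]
    erw [(EtCoh.pullPushAdj ν).left_triangle_components C]
    rw [Ext.comp_mk₀_id]
  have hb := Groth.Agent.S14451.result ν F hR 1
  refine ⟨fun y => ?_, ?_⟩
  · obtain ⟨w, rfl⟩ := hb.2 y
    obtain ⟨x, rfl⟩ := hsurj w
    exact ⟨x, hfun x⟩
  have hzero : EtLim.HofPush ν F 1 0 = 0 := map_zero (EtLim.HofPush ν F 1)
  have hk : Nat.card (EtCore.Hpull ν C 1).ker = Nat.card (EtCoh.H X S.X₃ 0) := by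
    rw [← hker]
    refine Nat.card_congr (Equiv.subtypeEquivRight fun x => ?_)
    rw [AddMonoidHom.mem_ker, hfun]
    exact ⟨fun h => hb.1 (h.trans hzero.symm), fun h => by rw [h]; exact hzero⟩
  -- the point sequence
  rw [hk, Nat.card_eq_of_bijective _ (hQb 0)]
  haveI : (EtCoh.pull i).Additive := (EtCoh.pullPushAdj i).left_adjoint_additive
  have hSi := hS.map_of_exact (EtCoh.pull i)
  have hcard := card_H_zero_point hSi
  have hA : Nat.card (EtCoh.H _ (S.map (EtCoh.pull i)).X₁ 0) = n := by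
    obtain ⟨e₁⟩ := EtPnCohLib.nonempty_H_congr (EtCore.pullConst i (ZMod n) : (EtCoh.pull i).obj C ≅ cn _ n) 0
    obtain ⟨e₂⟩ := EtSmAcycLib.nonempty_H_zero_const_connected (Y := Spec (CommRingCat.of k)) (ZMod n)
    exact (Nat.card_congr (e₁.trans e₂).toEquiv).trans (Nat.card_zmod n)
  let ν' := pullback.snd ν i
  let j := pullback.fst ν i
  have hB : Nat.card (EtCoh.H _ (S.map (EtCoh.pull i)).X₂ 0) = n * n := by
    haveI : IsFinite ν' := inferInstance
    haveI := EtShLib.isIso_baseChange0_of_finite ν i ν' j (IsPullback.of_hasPullback ν i) F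
    obtain ⟨e₀⟩ := EtPnCohLib.nonempty_H_congr
      (asIso (EtCoh.baseChange0 ν i ν' j (IsPullback.of_hasPullback ν i).w F)) 0
    obtain ⟨e₁⟩ := EtPnCohLib.nonempty_H_push ν' ((EtCoh.pull j).obj F)
      (fun q hq => EtShLib.isZero_rightDerived_push_finite ν' _ q hq) 0
    obtain ⟨e₂⟩ := EtPnCohLib.nonempty_H_congr
      ((EtCoh.pull j).mapIso (EtCore.pullConst ν (ZMod n)) ≪≫ EtCore.pullConst j (ZMod n) :
        (EtCoh.pull j).obj F ≅ cn _ n) 0
    haveI := discreteTopology_of_finite ν'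
    obtain ⟨e₃⟩ := EtPnCohLib.nonempty_H_zero_discrete (Y := pullback ν i) (ZMod n)
    refine (Nat.card_congr (e₀.trans (e₁.trans (e₂.trans e₃))).toEquiv).trans ?_
    have h2 : Nat.card (pullback ν i : Scheme.{u}) = 2 := by
      rw [← natCard_fibre_node X hdim hz]
      refine Nat.card_eq_of_bijective (fun p => ⟨j.base p, ?_⟩) ⟨fun a b hab => ?_, fun y => ?_⟩
      · show ν.base (j.base p) = z
        rw [← Scheme.Hom.comp_apply, pullback.condition, Scheme.Hom.comp_apply, Subsingleton.elim (ν'.base p) default]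
        exact hiz
      · exact j.isClosedEmbedding.injective (congrArg Subtype.val hab)
      · obtain ⟨p, hp, -⟩ := Scheme.Pullback.exists_preimage_pullback (f := ν) (g := i) y.1 default (y.2.trans hiz.symm)
        exact ⟨p, Subtype.ext hp⟩
    haveI : Finite (pullback ν i : Scheme.{u}) := Nat.finite_of_card_ne_zero (by omega)
    rw [Nat.card_fun, h2, Nat.card_zmod, sq]
  rw [hA, hB] at hcard
  exact (Nat.eq_of_mul_eq_mul_left hn hcard).symm

end NodeCohLib

end
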